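import Mathlib

/-!
# Supports of the generating series of Hodge numbers of complete intersections
-/

set_option autoImplicit false
set_option linter.all false

open MvPowerSeries Finset

namespace GrothLib.HodgeSeries

abbrev S := MvPowerSeries (Fin 2) ℤ

/-- exponent `(p, q)` -/
noncomputable def E (p q : ℕ) : Fin 2 →₀ ℕ := Finsupp.single 0 p + Finsupp.single 1 q

theorem E_zero (p q : ℕ) : E p q 0 = p := by simp [E]

theorem E_one (p q : ℕ) : E p q 1 = q := by simp [E]

theorem E_self (e : Fin 2 →₀ ℕ) : E (e 0) (e 1) = e := by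
  ext i; fin_cases i <;> simp [E]

theorem E_eq_iff {p q : ℕ} {e : Fin 2 →₀ ℕ} : E p q = e ↔ p = e 0 ∧ q = e 1 := by
  constructor
  · rintro rfl; exact ⟨(E_zero p q).symm, (E_one p q).symm⟩
  · rintro ⟨rfl, rfl⟩; exact E_self e

theorem E_add (p q p' q' : ℕ) : E (p + p') (q + q') = E p q + E p' q' :=
  E_eq_iff.2 ⟨by simp [E_zero], by simp [E_one]⟩

/-- the series has nonnegative coefficients -/
def NN (f : S) : Prop := ∀ e, 0 ≤ coeff e f

theorem NN.mul {f g : S} (hf : NN f) (hg : NN g) : NN (f * g) := fun e => by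
  classical
  rw [coeff_mul]; exact sum_nonneg fun p _ => mul_nonneg (hf _) (hg _)

theorem NN.add {f g : S} (hf : NN f) (hg : NN g) : NN (f + g) := fun e => by
  rw [map_add]; exact add_nonneg (hf e) (hg e)

theorem NN.one : NN (1 : S) := fun e => by
  classical
  rw [coeff_one]; split <;> norm_num

theorem NN.X (i : Fin 2) : NN (MvPowerSeries.X i : S) := fun e => by
  classical
  rw [coeff_X]; split <;> norm_num

theorem pos_mul {f g : S} (hf : NN f) (hg : NN g) {a b : Fin 2 →₀ ℕ}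
    (ha : 0 < coeff a f) (hb : 0 < coeff b g) : 0 < coeff (a + b) (f * g) := by
  classical
  rw [coeff_mul]
  exact sum_pos' (fun p _ => mul_nonneg (hf _) (hg _)) ⟨(a, b), HasAntidiagonal.mem_antidiagonal.2 rfl, mul_pos ha hb⟩

/-- all exponents in the support satisfy `q ≤ B p + K` -/
def Bnd (B K : ℤ) (f : S) : Prop := ∀ e, coeff e f ≠ 0 → (e 1 : ℤ) ≤ B * e 0 + K

theorem Bnd.mul {B K K' : ℤ} {f g : S} (hf : Bnd B K f) (hg : Bnd B K' g) : Bnd B (K + K') (f * g) := by
  classical
  intro e he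
  rw [coeff_mul] at he
  obtain ⟨p, hp, hne⟩ := exists_ne_zero_of_sum_ne_zero he
  rw [HasAntidiagonal.mem_antidiagonal] at hp
  have h1 := hf _ (left_ne_zero_of_mul hne)
  have h2 := hg _ (right_ne_zero_of_mul hne)
  rw [← hp]
  simp only [Finsupp.add_apply, Nat.cast_add]
  linarith

theorem Bnd.mono {B K K' : ℤ} {f : S} (hf : Bnd B K f) (h : K ≤ K') : Bnd B K' f := fun e he => by
  linarith [hf e he]

/-- `(1 + y) (1 + z)` -/
noncomputable def W : S := (1 + MvPowerSeries.X 0) * (1 + MvPowerSeries.X 1)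

theorem W_nn : NN W := (NN.one.add (NN.X 0)).mul (NN.one.add (NN.X 1))

theorem coeff_one_add_X (i : Fin 2) (e : Fin 2 →₀ ℕ) (he : coeff e (1 + MvPowerSeries.X i : S) ≠ 0) :
    e = 0 ∨ e = Finsupp.single i 1 := by
  classical
  by_contra h
  push Not at h
  rw [map_add, coeff_one, coeff_X, if_neg h.1, if_neg h.2] at he
  exact he (add_zero 0)

theorem pos_one_add_X (i : Fin 2) :
    0 < coeff 0 (1 + MvPowerSeries.X i : S) ∧ 0 < coeff (Finsupp.single i 1) (1 + MvPowerSeries.X i : S) := by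
  classical
  constructor
  · rw [map_add, coeff_one, coeff_X]
    have : (0 : Fin 2 →₀ ℕ) ≠ Finsupp.single i 1 := fun h => by
      simpa using congrArg (fun f => f i) h
    simp [this]
  · rw [map_add, coeff_one, coeff_X]
    simp

theorem W_bnd {B : ℤ} (hB : 0 ≤ B) : Bnd B 1 W := by
  have h0 : Bnd B 0 (1 + MvPowerSeries.X 0 : S) := fun e he => by
    rcases coeff_one_add_X 0 e he with rfl | rfl <;> simp [hB]
  have h1 : Bnd B 1 (1 + MvPowerSeries.X 1 : S) := fun e he => by
    rcases coeff_one_add_X 1 e he with rfl | rfl <;> simp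
  simpa [W] using h0.mul h1

theorem W_pos_zero : 0 < coeff 0 W := by
  have := pos_mul (NN.one.add (NN.X 0)) (NN.one.add (NN.X 1)) (pos_one_add_X 0).1 (pos_one_add_X 1).1
  rwa [add_zero] at this

theorem W_pos_one : 0 < coeff (E 0 1) W := by
  have := pos_mul (NN.one.add (NN.X 0)) (NN.one.add (NN.X 1)) (pos_one_add_X 0).1 (pos_one_add_X 1).2
  rw [zero_add] at this
  rw [show E 0 1 = Finsupp.single 1 1 by simp [E]]
  exact this

theorem natCast_mul_pow (c u v : ℕ) :
    (c : S) * MvPowerSeries.X 0 ^ u * MvPowerSeries.X 1 ^ v = monomial (E u v) (c : ℤ) := by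
  rw [X_pow_eq, X_pow_eq, ← map_natCast (MvPowerSeries.C (σ := Fin 2) (R := ℤ)), ← monomial_zero_eq_C_apply,
    monomial_mul_monomial, monomial_mul_monomial, zero_add, mul_one, mul_one]
  rfl

/-- the series with coefficient `c u v` on the region `R` inside a square -/
theorem coeff_region (n : ℕ) (R : ℕ → ℕ → Prop) [DecidableRel R] (c : ℕ → ℕ → ℕ) (e : Fin 2 →₀ ℕ)
    (hR : ∀ u v, R u v → u < n ∧ v < n) :
    coeff e (∑ u ∈ range n, ∑ v ∈ range n,
      if R u v then (c u v : S) * MvPowerSeries.X 0 ^ u * MvPowerSeries.X 1 ^ v else 0) =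
      if R (e 0) (e 1) then (c (e 0) (e 1) : ℤ) else 0 := by
  classical
  simp only [map_sum, natCast_mul_pow]
  by_cases h : R (e 0) (e 1)
  · obtain ⟨hu, hv⟩ := hR _ _ h
    rw [sum_eq_single_of_mem (e 0) (mem_range.2 hu), sum_eq_single_of_mem (e 1) (mem_range.2 hv)]
    · rw [if_pos h, if_pos h, E_self, coeff_monomial, if_pos rfl]
    · intro v _ hne
      split
      · rw [coeff_monomial, if_neg fun he => hne (E_eq_iff.1 he.symm).2]
      · exact map_zero _
    · intro u _ hne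
      refine sum_eq_zero fun v _ => ?_
      split
      · rw [coeff_monomial, if_neg fun he => hne (E_eq_iff.1 he.symm).1]
      · exact map_zero _
  · rw [if_neg h]
    refine sum_eq_zero fun u _ => sum_eq_zero fun v _ => ?_
    split
    case isTrue hh =>
      rw [coeff_monomial, if_neg]
      intro he
      obtain ⟨rfl, rfl⟩ := E_eq_iff.1 he.symm
      exact h hh
    case isFalse => exact map_zero _

/-- hypersurface data: `H = N + P H` with the given coefficient patterns -/
structure Hyp (b : ℕ) (H P N : S) : Prop where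
  eq : (1 - P) * H = N
  P_nn : NN P
  P_supp : ∀ e, coeff e P ≠ 0 → 1 ≤ e 0 ∧ 1 ≤ e 1 ∧ e 0 + e 1 ≤ b + 1
  P_pos : ∀ u v, 1 ≤ u → 1 ≤ v → u + v ≤ b + 1 → 0 < coeff (E u v) P
  N_nn : NN N
  N_supp : ∀ e, coeff e N ≠ 0 → e 0 + e 1 + 1 ≤ b
  N_pos : ∀ u v, u + v + 1 ≤ b → 0 < coeff (E u v) N

variable {b : ℕ} {H P N : S}

theorem Hyp.rec_eq (h : Hyp b H P N) : H = N + P * H := by rw [← h.eq]; ring

theorem Hyp.props (h : Hyp b H P N) : ∀ n, ∀ e : Fin 2 →₀ ℕ, e 0 + e 1 ≤ n →
    0 ≤ coeff e H ∧ (coeff e H ≠ 0 → e 1 + 1 ≤ (e 0 + 1) * b) ∧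
      (e 0 ≤ e 1 → e 1 + 1 ≤ (e 0 + 1) * b → 0 < coeff e H) := by
  classical
  intro n
  induction n using Nat.strong_induction_on with
  | _ n ih =>
    intro e he
    have hsmall : ∀ p ∈ antidiagonal e, coeff p.1 P ≠ 0 →
        0 ≤ coeff p.2 H ∧ (coeff p.2 H ≠ 0 → p.2 1 + 1 ≤ (p.2 0 + 1) * b) ∧
        (p.2 0 ≤ p.2 1 → p.2 1 + 1 ≤ (p.2 0 + 1) * b → 0 < coeff p.2 H) := by
      intro p hp hne
      rw [HasAntidiagonal.mem_antidiagonal] at hp
      obtain ⟨h0, h1, -⟩ := h.P_supp _ hne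
      have e0 : p.1 0 + p.2 0 = e 0 := by rw [← hp]; rfl
      have e1 : p.1 1 + p.2 1 = e 1 := by rw [← hp]; rfl
      exact ih (p.2 0 + p.2 1) (by omega) p.2 le_rfl
    have hterm : ∀ p ∈ antidiagonal e, 0 ≤ coeff p.1 P * coeff p.2 H := fun p hp => by
      by_cases h0 : coeff p.1 P = 0
      · simp [h0]
      · exact mul_nonneg (h.P_nn _) (hsmall p hp h0).1
    have hco : coeff e H = coeff e N + ∑ p ∈ antidiagonal e, coeff p.1 P * coeff p.2 H := by
      conv_lhs => rw [h.rec_eq]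
      rw [map_add, coeff_mul]
    refine ⟨hco ▸ add_nonneg (h.N_nn e) (sum_nonneg hterm), fun hne => ?_, fun hpq hb => ?_⟩
    · by_cases hN : coeff e N ≠ 0
      · have := h.N_supp e hN
        nlinarith
      · push Not at hN
        rw [hco, hN, zero_add] at hne
        obtain ⟨p, hp, hp'⟩ := exists_ne_zero_of_sum_ne_zero hne
        obtain ⟨h0, h1, h2⟩ := h.P_supp _ (left_ne_zero_of_mul hp')
        have h3 := (hsmall p hp (left_ne_zero_of_mul hp')).2.1 (right_ne_zero_of_mul hp')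
        rw [HasAntidiagonal.mem_antidiagonal] at hp
        rw [← hp]
        simp only [Finsupp.add_apply]
        nlinarith
    · rw [hco]
      by_cases hN : e 0 + e 1 + 1 ≤ b
      · refine add_pos_of_pos_of_nonneg ?_ (sum_nonneg hterm)
        rw [← E_self e]; exact h.N_pos _ _ hN
      · refine add_pos_of_nonneg_of_pos (h.N_nn e) (sum_pos' hterm ?_)
        obtain ⟨p, hp⟩ : ∃ p, e 0 = p + 1 := ⟨e 0 - 1, by
          rcases Nat.eq_zero_or_pos (e 0) with h0 | h0
          · rw [h0] at hb hN; omega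
          · omega⟩
        have hb1 : 1 ≤ b := by
          rcases Nat.eq_zero_or_pos b with h0 | h0
          · rw [h0, mul_zero] at hb; omega
          · exact h0
        let q := max p (e 1 - b)
        have hq : q + 1 ≤ e 1 := by omega
        have hq' : e 1 ≤ q + b := by omega
        have hmem : (E 1 (e 1 - q), E p q) ∈ antidiagonal e := by
          rw [HasAntidiagonal.mem_antidiagonal, ← E_add, ← E_self e, E_eq_iff, E_zero, E_one]
          omega
        have hP := h.P_pos 1 (e 1 - q) le_rfl (by omega) (by omega)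
        refine ⟨_, hmem, mul_pos hP ((hsmall _ hmem hP.ne').2.2 ?_ ?_)⟩
        · rw [E_zero, E_one]; exact le_max_left _ _
        · rw [E_zero, E_one]
          rw [hp] at hb
          rcases le_total p (e 1 - b) with hc | hc
          · rw [show q = e 1 - b from max_eq_right hc]
            rcases le_total (e 1) b with hc' | hc'
            · rw [Nat.sub_eq_zero_of_le hc']; nlinarith
            · zify [hc'] at hb ⊢; nlinarith
          · rw [show q = p from max_eq_left hc]; nlinarith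

theorem Hyp.nn (h : Hyp b H P N) : NN H := fun e => (h.props _ e le_rfl).1

theorem Hyp.bnd (h : Hyp b H P N) {B : ℤ} (hB : (b : ℤ) ≤ B) : Bnd B ((b : ℤ) - 1) H := fun e he => by
  have h1 : ((e 1 + 1 : ℕ) : ℤ) ≤ ((e 0 + 1) * b : ℕ) := by exact_mod_cast (h.props _ e le_rfl).2.1 he
  push_cast at h1
  nlinarith [(Int.natCast_nonneg (e 0))]

theorem Hyp.pos (h : Hyp b H P N) {p q : ℕ} (hpq : p ≤ q) (hb : q + 1 ≤ (p + 1) * b) :
    0 < coeff (E p q) H :=
  (h.props _ (E p q) le_rfl).2.2 (by simpa [E_zero, E_one] using hpq) (by simpa [E_zero, E_one] using hb)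

variable {d : ℕ} (Hs : Fin d → S) (bf : Fin d → ℕ)

/-- summand of a subset -/
noncomputable def G (P : Finset (Fin d)) : S := W ^ (P.card - 1) * ∏ i ∈ P, Hs i

theorem G_insert {P : Finset (Fin d)} {j : Fin d} (hj : j ∉ P) (hP : P.Nonempty) :
    G Hs (insert j P) = W * Hs j * G Hs P := by
  rw [G, G, card_insert_of_notMem hj, prod_insert hj]
  obtain ⟨c, hc⟩ : ∃ c, P.card = c + 1 := ⟨P.card - 1, by have := hP.card_pos; omega⟩
  rw [hc, Nat.add_sub_cancel, Nat.add_sub_cancel]
  ring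

variable {Hs bf} (hyp : ∀ i, ∃ P N, Hyp (bf i) (Hs i) P N)

include hyp in
theorem G_nn (P : Finset (Fin d)) (hP : P.Nonempty) : NN (G Hs P) := by
  induction hP using Nonempty.cons_induction with
  | singleton i =>
    obtain ⟨_, _, hi⟩ := hyp i
    simpa [G] using hi.nn
  | cons j s hj hs ih =>
    obtain ⟨_, _, hi⟩ := hyp j
    rw [cons_eq_insert, G_insert Hs hj hs]
    exact (W_nn.mul hi.nn).mul ih

include hyp in
theorem G_bnd {B : ℕ} (hB : ∀ i, bf i ≤ B) (P : Finset (Fin d)) (hP : P.Nonempty) :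
    Bnd B ((∑ i ∈ P, (bf i : ℤ)) - 1) (G Hs P) := by
  induction hP using Nonempty.cons_induction with
  | singleton i =>
    obtain ⟨_, _, hi⟩ := hyp i
    simpa [G] using hi.bnd (by exact_mod_cast hB i)
  | cons j s hj hs ih =>
    obtain ⟨_, _, hi⟩ := hyp j
    rw [cons_eq_insert, G_insert Hs hj hs, sum_insert hj]
    exact (((W_bnd (Int.natCast_nonneg B)).mul (hi.bnd (by exact_mod_cast hB j))).mul ih).mono (by linarith)

include hyp in
theorem exists_pos {i₀ : Fin d} {B p : ℕ} (hi₀ : bf i₀ = B) (hB : 1 ≤ B) (s : Finset (Fin d)) (hs : i₀ ∉ s) :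
    ∀ r, r ≤ ∑ i ∈ s, bf i → ∃ P : Finset (Fin d), P.Nonempty ∧ P ⊆ insert i₀ s ∧
      ∀ q, q + 1 = (p + 1) * B + r → 0 < coeff (E p q) (G Hs P) := by
  induction s using Finset.induction with
  | empty =>
    intro r hr
    obtain rfl : r = 0 := by simpa using hr
    obtain ⟨_, _, hi⟩ := hyp i₀
    refine ⟨{i₀}, singleton_nonempty _, by simp, fun q hq => ?_⟩
    have := hi.pos (p := p) (q := q) (by nlinarith) (by rw [hi₀]; omega)
    simpa [G] using this
  | insert j t hjt ih =>
    intro r hr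
    rw [sum_insert hjt] at hr
    have hij : i₀ ≠ j := fun h => hs (h ▸ mem_insert_self _ _)
    have hit : i₀ ∉ t := fun h => hs (mem_insert_of_mem h)
    obtain ⟨P, hP, hPs, hpos⟩ := ih hit (r - min r (bf j)) (by omega)
    by_cases hb : bf j = 0
    · refine ⟨P, hP, hPs.trans (insert_subset_insert _ (subset_insert _ _)), fun q hq => hpos q ?_⟩
      rw [hb] ; simpa using hq
    have hjP : j ∉ P := fun h => by
      rcases mem_insert.1 (hPs h) with h' | h'
      · exact hij h'.symm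
      · exact hjt h'
    obtain ⟨_, _, hj⟩ := hyp j
    refine ⟨insert j P, insert_nonempty _ _, ?_, fun q hq => ?_⟩
    · intro x hx
      rcases mem_insert.1 hx with rfl | hx'
      · simp
      · exact (hPs.trans (insert_subset_insert _ (subset_insert _ _))) hx'
    have hpB : 1 ≤ (p + 1) * B := Nat.one_le_iff_ne_zero.2 (mul_ne_zero (by omega) (by omega))
    rw [G_insert Hs hjP hP]
    set r₁ := min r (bf j) with hr₁
    have h1 : 0 < coeff (E 0 r₁) (W * Hs j) := by
      rcases Nat.eq_zero_or_pos r₁ with h0 | h0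
      · have := pos_mul W_nn hj.nn W_pos_zero (hj.pos (le_refl 0) (by omega : 0 + 1 ≤ (0 + 1) * bf j))
        rwa [h0, zero_add] at *
      · obtain ⟨r₂, hr₂⟩ : ∃ r₂, r₁ = 1 + r₂ := ⟨r₁ - 1, by omega⟩
        have := pos_mul W_nn hj.nn W_pos_one (hj.pos (Nat.zero_le r₂) (by omega : r₂ + 1 ≤ (0 + 1) * bf j))
        rw [← E_add] at this
        rwa [hr₂]
    have h2 := pos_mul (W_nn.mul hj.nn) (G_nn hyp P hP) h1 (hpos (q - r₁) (by omega))
    rw [← E_add, zero_add] at h2
    rwa [show r₁ + (q - r₁) = q by omega] at h2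

include hyp in
/-- the support criterion -/
theorem coeff_ne_zero_iff {B : ℕ} (hB : ∀ i, bf i ≤ B) (hmax : ∃ i, bf i = B) {p q : ℕ} (hpq : p ≤ q) :
    coeff (E p q) (∑ P ∈ (Finset.univ : Finset (Fin d)).powerset with P.Nonempty, G Hs P) ≠ 0 ↔
      q + 1 ≤ p * B + ∑ i, bf i := by
  classical
  rw [map_sum]
  constructor
  · intro h
    obtain ⟨P, hP, hne⟩ := exists_ne_zero_of_sum_ne_zero h
    rw [mem_filter] at hP
    have h1 := G_bnd hyp hB P hP.2 _ hne
    rw [E_zero, E_one] at h1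
    have h2 : (∑ i ∈ P, (bf i : ℤ)) ≤ ∑ i, (bf i : ℤ) :=
      sum_le_sum_of_subset_of_nonneg (subset_univ _) fun i _ _ => Int.natCast_nonneg _
    zify
    linarith [mul_comm (B : ℤ) (p : ℤ)]
  · intro h
    have hnn : ∀ P ∈ (Finset.univ : Finset (Fin d)).powerset.filter (fun P => P.Nonempty),
        0 ≤ coeff (E p q) (G Hs P) := fun P hP => G_nn hyp P (mem_filter.1 hP).2 _
    obtain ⟨i₀, hi₀⟩ := hmax
    have hB1 : 1 ≤ B := by
      by_contra hB0
      obtain rfl : B = 0 := by omega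
      have : ∑ i, bf i = 0 := sum_eq_zero fun i _ => Nat.le_zero.1 (hB i)
      rw [this, mul_zero] at h
      omega
    refine (sum_pos' hnn ?_).ne'
    by_cases hsmall : q + 1 ≤ (p + 1) * B
    · obtain ⟨_, _, hi⟩ := hyp i₀
      refine ⟨{i₀}, mem_filter.2 ⟨mem_powerset.2 (subset_univ _), singleton_nonempty _⟩, ?_⟩
      have := hi.pos hpq (by rwa [hi₀])
      simpa [G] using this
    · have hsum : ∑ i, bf i = B + ∑ i ∈ univ.erase i₀, bf i := by
        rw [← hi₀, ← add_sum_erase univ bf (mem_univ i₀)]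
      rw [hsum, ← add_assoc, ← add_one_mul] at h
      obtain ⟨P, hP, -, hpos⟩ := exists_pos hyp (p := p) hi₀ hB1 (univ.erase i₀) (notMem_erase _ _)
        (q + 1 - (p + 1) * B) (by omega)
      exact ⟨P, mem_filter.2 ⟨mem_powerset.2 (subset_univ _), hP⟩, hpos q (by omega)⟩

end GrothLib.HodgeSeries
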