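import Mathlib
import Groth.Agent.Lib.HodgeSeries.Basic

/-!
# The series of a hypersurface of degree `a`
-/

set_option autoImplicit false
set_option linter.all false

open MvPowerSeries Finset

namespace GrothLib.HodgeSeries

theorem hyp_of_series (a : ℕ) (ha : 1 ≤ a) (H : S)
    (h : (1 - ∑ u ∈ range (a + 1), ∑ v ∈ range (a + 1),
        if 1 ≤ u ∧ 1 ≤ v ∧ u + v ≤ a then (a.choose (u + v) : S) * MvPowerSeries.X 0 ^ u * MvPowerSeries.X 1 ^ v else 0) * H =
      ∑ u ∈ range a, ∑ v ∈ range a,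
        if u + v + 1 ≤ a - 1 then ((a - 1).choose (u + v + 1) : S) * MvPowerSeries.X 0 ^ u * MvPowerSeries.X 1 ^ v else 0) :
    ∃ P N, Hyp (a - 1) H P N := by
  have hP := fun e => coeff_region (a + 1) (fun u v => 1 ≤ u ∧ 1 ≤ v ∧ u + v ≤ a) (fun u v => a.choose (u + v)) e
    (fun u v hh => by omega)
  have hN := fun e => coeff_region a (fun u v => u + v + 1 ≤ a - 1) (fun u v => (a - 1).choose (u + v + 1)) e
    (fun u v hh => by omega)
  refine ⟨_, _, ⟨h, fun e => ?_, fun e he => ?_, fun u v hu hv huv => ?_, fun e => ?_, fun e he => ?_,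
    fun u v huv => ?_⟩⟩
  · rw [hP]; split <;> simp
  · rw [hP] at he
    split at he
    · omega
    · exact absurd rfl he
  · rw [hP, E_zero, E_one, if_pos ⟨hu, hv, by omega⟩]
    exact_mod_cast Nat.choose_pos (by omega)
  · rw [hN]; split <;> simp
  · rw [hN] at he
    split at he
    · omega
    · exact absurd rfl he
  · rw [hN, E_zero, E_one, if_pos huv]
    exact_mod_cast Nat.choose_pos (by omega)

/-- the support criterion in terms of the degrees -/
theorem coeff_ne_zero_iff_degrees (d : ℕ) (a : Fin d → ℕ) (ha : ∀ i, 1 ≤ a i) (Hs : Fin d → S)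
    (hyp : ∀ i, ∃ P N, Hyp (a i - 1) (Hs i) P N) {p q : ℕ} (hpq : p ≤ q) :
    coeff (E p q) (∑ P ∈ (Finset.univ : Finset (Fin d)).powerset with P.Nonempty, G Hs P) ≠ 0 ↔
      p + q + d < p * Finset.univ.sup a + ∑ i, a i := by
  rcases Nat.eq_zero_or_pos d with rfl | hd
  · have hempty : ((Finset.univ : Finset (Fin 0)).powerset.filter fun P => P.Nonempty) = ∅ := by decide
    rw [hempty, sum_empty]
    simp
  · haveI : Nonempty (Fin d) := ⟨⟨0, hd⟩⟩
    obtain ⟨i₀, -, hi₀⟩ := Finset.exists_mem_eq_sup univ univ_nonempty a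
    rw [coeff_ne_zero_iff hyp (B := univ.sup a - 1)
      (fun i => Nat.sub_le_sub_right (le_sup (mem_univ i)) 1) ⟨i₀, by rw [hi₀]⟩ hpq]
    have hsum : ∑ i, (a i - 1) + d = ∑ i, a i := by
      have : ∑ i, ((a i - 1) + 1) = ∑ i, a i := sum_congr rfl fun i _ => Nat.sub_add_cancel (ha i)
      rw [← this, sum_add_distrib]
      simp
    have hA : p * univ.sup a = p * (univ.sup a - 1) + p := by
      rw [← Nat.mul_succ, Nat.succ_eq_add_one, Nat.sub_add_cancel (hi₀ ▸ ha i₀)]
    omega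

end GrothLib.HodgeSeries
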